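import Mathlib

set_option linter.style.haveILetI false
set_option linter.unusedSectionVars false
set_option autoImplicit false

universe u

open MeasureTheory

namespace Groth.Agent.HaarDev

variable {G : Type u} [AddCommGroup G] [TopologicalSpace G] [IsTopologicalAddGroup G] [CompactSpace G] [T2Space G]
  [MeasurableSpace G] [BorelSpace G]

/-- Continuous functions on a power of a compact Hausdorff space are measurable for the product σ-algebra. -/
theorem measurable_of_continuous {ι : Type*} [Fintype ι] {f : (ι → G) → ℝ} (hf : Continuous f) : Measurable f := by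
  let A : Subalgebra ℝ C(ι → G, ℝ) :=
    { carrier := {g | Measurable g}
      mul_mem' := fun {a b} ha hb => Measurable.mul ha hb
      add_mem' := fun {a b} ha hb => Measurable.add ha hb
      algebraMap_mem' := fun r => measurable_const }
  have hA : A.SeparatesPoints := by
    intro x y hxy
    obtain ⟨i, hi⟩ := Function.ne_iff.1 hxy
    obtain ⟨g, h0, h1, -⟩ := exists_continuous_zero_one_of_isClosed (isClosed_singleton (x := x i))
      (isClosed_singleton (x := y i)) (Set.disjoint_singleton.2 hi)
    refine ⟨_, ⟨g.comp ⟨fun u => u i, continuous_apply i⟩, ?_, rfl⟩, ?_⟩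
    · exact g.continuous.measurable.comp (measurable_pi_apply i)
    · change g (x i) ≠ g (y i)
      rw [h0 rfl, h1 rfl]
      simp
  have h := ContinuousMap.subalgebra_topologicalClosure_eq_top_of_separatesPoints A hA
  have hmem : (⟨f, hf⟩ : C(ι → G, ℝ)) ∈ closure (A : Set C(ι → G, ℝ)) := by
    rw [← Subalgebra.topologicalClosure_coe, h]
    trivial
  obtain ⟨s, hs, hlim⟩ := mem_closure_iff_seq_limit.1 hmem
  refine measurable_of_tendsto_metrizable (f := fun k => ⇑(s k)) hs ?_
  rw [tendsto_pi_nhds]
  intro x
  exact (ContinuousEvalConst.continuous_eval_const x).continuousAt.tendsto.comp hlim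

variable (μ : Measure G) [IsProbabilityMeasure μ]

noncomputable abbrev J (n : ℕ) (f : (Fin n → G) → ℝ) : ℝ := ∫ u, f u ∂(Measure.pi (fun _ : Fin n => μ))

theorem integrable_of_continuous {n : ℕ} {f : (Fin n → G) → ℝ} (hf : Continuous f) :
    Integrable f (Measure.pi (fun _ : Fin n => μ)) := by
  obtain ⟨C, hC⟩ := isCompact_univ.exists_bound_of_continuousOn hf.continuousOn
  exact Integrable.of_bound (measurable_of_continuous hf).aestronglyMeasurable C
    (Filter.Eventually.of_forall fun x => hC x trivial)

theorem continuous_J {X : Type*} [TopologicalSpace X] {n : ℕ} {F : X → (Fin n → G) → ℝ}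
    (hF : Continuous (Function.uncurry F)) : Continuous fun x => J μ n (F x) := by
  let Φ : C(Fin n → G, ℝ) → ℝ := fun g => J μ n g
  have hΦ : Continuous Φ := by
    refine (LipschitzWith.of_dist_le_mul (K := 1) fun g g' => ?_).continuous
    rw [Real.dist_eq, NNReal.coe_one, one_mul]
    change |∫ u, g u ∂(Measure.pi (fun _ : Fin n => μ)) - ∫ u, g' u ∂(Measure.pi (fun _ : Fin n => μ))| ≤ _
    rw [← integral_sub (integrable_of_continuous μ g.continuous) (integrable_of_continuous μ g'.continuous)]
    rw [← Real.norm_eq_abs]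
    refine le_trans (norm_integral_le_of_norm_le_const (C := dist g g') (Filter.Eventually.of_forall fun u => ?_)) ?_
    · rw [← dist_eq_norm]
      exact ContinuousMap.dist_apply_le_dist u
    · simp
  exact hΦ.comp (ContinuousMap.curry ⟨Function.uncurry F, hF⟩).continuous

omit [IsProbabilityMeasure μ] in
theorem continuous_cons {n : ℕ} : Continuous fun p : G × (Fin n → G) => (Fin.cons p.1 p.2 : Fin (n + 1) → G) :=
  continuous_pi fun i => Fin.cases continuous_fst (fun j => (continuous_apply j).comp continuous_snd) i

theorem cont_cons_left {n : ℕ} {f : (Fin (n + 1) → G) → ℝ} (hf : Continuous f) (u : Fin n → G) :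
    Continuous fun c => f (Fin.cons c u) :=
  hf.comp (continuous_cons.comp (continuous_id.prodMk continuous_const))

theorem cont_cons_right {n : ℕ} {f : (Fin (n + 1) → G) → ℝ} (hf : Continuous f) (c : G) :
    Continuous fun u : Fin n → G => f (Fin.cons c u) :=
  hf.comp (continuous_cons.comp (continuous_const.prodMk continuous_id))

theorem integrable_left {f : G → ℝ} (hf : Continuous f) : Integrable f μ := by
  obtain ⟨C, hC⟩ := isCompact_univ.exists_bound_of_continuousOn hf.continuousOn
  exact Integrable.of_bound hf.measurable.aestronglyMeasurable C (Filter.Eventually.of_forall fun x => hC x trivial)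

theorem integrable_prod {n : ℕ} {f : (Fin (n + 1) → G) → ℝ} (hf : Continuous f) :
    Integrable (fun p : G × (Fin n → G) => f (Fin.cons p.1 p.2)) (μ.prod (Measure.pi (fun _ : Fin n => μ))) := by
  obtain ⟨C, hC⟩ := isCompact_univ.exists_bound_of_continuousOn hf.continuousOn
  refine Integrable.of_bound ((measurable_of_continuous hf).comp ?_).aestronglyMeasurable C
    (Filter.Eventually.of_forall fun x => hC _ trivial)
  exact measurable_pi_lambda _ fun i => Fin.cases measurable_fst
    (fun j => (measurable_pi_apply j).comp measurable_snd) i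

theorem J_prod {n : ℕ} (f : (Fin (n + 1) → G) → ℝ) :
    J μ (n + 1) f = ∫ p, f (Fin.cons p.1 p.2) ∂(μ.prod (Measure.pi (fun _ : Fin n => μ))) := by
  have h := (measurePreserving_piFinSuccAbove (fun _ : Fin (n + 1) => μ) 0).symm
  rw [J, ← h.integral_comp']
  congr 1
  funext p
  simp [MeasurableEquiv.piFinSuccAbove_symm_apply, Fin.insertNthEquiv, Fin.insertNth_zero]

theorem J_succ {n : ℕ} {f : (Fin (n + 1) → G) → ℝ} (hf : Continuous f) :
    J μ (n + 1) f = ∫ c, J μ n (fun u => f (Fin.cons c u)) ∂μ := by
  rw [J_prod, integral_prod _ (integrable_prod μ hf)]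

theorem J_succ' {n : ℕ} {f : (Fin (n + 1) → G) → ℝ} (hf : Continuous f) :
    J μ (n + 1) f = J μ n fun u => ∫ c, f (Fin.cons c u) ∂μ := by
  rw [J_prod, integral_prod_symm _ (integrable_prod μ hf)]

/-- Alternating sum over all subsets. -/
noncomputable def E {k : ℕ} (φ : G → ℝ) (x : Fin k → G) : ℝ :=
  ∑ I ∈ (Finset.univ : Finset (Fin k)).powerset, (-1 : ℝ) ^ (k + I.card) * φ (∑ i ∈ I, x i)

theorem E_zero (φ : G → ℝ) (x : Fin 0 → G) : E φ x = φ 0 := by simp [E]

theorem E_succ {k : ℕ} (φ : G → ℝ) (a : G) (x : Fin k → G) :
    E φ (Fin.cons a x) = E (fun t => φ (a + t)) x - E φ x := by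
  classical
  have hinj : Function.Injective (Fin.succ : Fin k → Fin (k + 1)) := Fin.succ_injective k
  unfold E
  rw [Fin.univ_succ, Finset.cons_eq_insert, Finset.sum_powerset_insert (by simp), Finset.map_eq_image,
    Finset.powerset_image]
  simp only [Function.Embedding.coeFn_mk]
  rw [Finset.sum_image ((Finset.image_injective hinj).injOn),
    Finset.sum_image ((Finset.image_injective hinj).injOn), ← Finset.sum_sub_distrib, ← Finset.sum_add_distrib]
  refine Finset.sum_congr rfl fun I _ => ?_
  change (-1 : ℝ) ^ (k + 1 + (I.image Fin.succ).card) * φ (∑ i ∈ I.image Fin.succ, (Fin.cons a x : Fin (k + 1) → G) i) +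
      (-1 : ℝ) ^ (k + 1 + (insert 0 (I.image Fin.succ)).card) *
        φ (∑ i ∈ insert 0 (I.image Fin.succ), (Fin.cons a x : Fin (k + 1) → G) i) = _
  rw [Finset.sum_insert (by simp [Fin.succ_ne_zero]), Finset.card_insert_of_notMem (by simp [Fin.succ_ne_zero]),
    Finset.sum_image hinj.injOn, Finset.card_image_of_injective _ hinj]
  simp only [Fin.cons_zero, Fin.cons_succ, pow_add, pow_one]
  ring

/-- The deviation. -/
noncomputable def S {n : ℕ} (φ : G → ℝ) (x : Fin (n + 1) → G) : ℝ :=
  ∑ I ∈ ((Finset.univ : Finset (Fin (n + 1))).powerset.erase ∅), (-1 : ℝ) ^ (n + 1 + I.card) * φ (∑ i ∈ I, x i)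

theorem S_eq {n : ℕ} (φ : G → ℝ) (x : Fin (n + 1) → G) : S φ x = E φ x - (-1 : ℝ) ^ (n + 1) * φ 0 := by
  rw [S, E, Finset.sum_erase_eq_sub (Finset.empty_mem_powerset _)]
  simp

theorem S_zero (φ : G → ℝ) (x : Fin 1 → G) : S φ x = φ (x 0) := by
  obtain ⟨a, y, rfl⟩ : ∃ a y, x = Fin.cons a y := ⟨x 0, Fin.tail x, (Fin.cons_self_tail x).symm⟩
  rw [S_eq, E_succ, E_zero, E_zero]
  simp

theorem S_succ {n : ℕ} (φ : G → ℝ) (a b : G) (u : Fin n → G) :
    S φ (Fin.cons a (Fin.cons b u) : Fin (n + 2) → G) =
      S φ (Fin.cons (a + b) u) - S φ (Fin.cons a u) - S φ (Fin.cons b u) := by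
  simp only [S_eq, E_succ, add_assoc, pow_succ]
  ring

theorem S_neg {n : ℕ} (φ : G → ℝ) (x : Fin (n + 1) → G) : S (fun g => - φ g) x = - S φ x := by
  simp [S]

theorem continuous_S {n : ℕ} {φ : G → ℝ} (hφ : Continuous φ) : Continuous (S φ : (Fin (n + 1) → G) → ℝ) :=
  continuous_finsetSum _ fun I _ => continuous_const.mul (hφ.comp (continuous_finsetSum _ fun i _ => continuous_apply i))

variable [μ.IsAddHaarMeasure]

theorem unique (n : ℕ) : ∀ (φ : G → ℝ), Continuous φ → ∀ g : G,
    J μ n (fun u => S φ (Fin.cons g u)) = (-1 : ℝ) ^ n * φ g := by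
  induction n with
  | zero => intro φ _ g; simp [S_zero]
  | succ n ih =>
    intro φ hφ g
    rw [J_succ μ (cont_cons_right (continuous_S hφ) g)]
    have hi : ∀ a, Integrable (fun u : Fin n → G => S φ (Fin.cons a u)) (Measure.pi (fun _ : Fin n => μ)) := fun a =>
      integrable_of_continuous μ (cont_cons_right (continuous_S hφ) a)
    have h : ∀ c, J μ n (fun u => S φ (Fin.cons g (Fin.cons c u) : Fin (n + 2) → G)) =
        (-1 : ℝ) ^ n * φ (g + c) - (-1 : ℝ) ^ n * φ g - (-1 : ℝ) ^ n * φ c := fun c => by
      simp only [S_succ, J]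
      rw [integral_sub, integral_sub]
      · simp only [J] at ih
        rw [ih φ hφ, ih φ hφ, ih φ hφ]
      · exact hi _
      · exact hi _
      · exact (hi _).sub (hi _)
      · exact hi _
    simp only [h]
    rw [integral_sub, integral_sub, integral_const_mul, integral_const_mul, integral_add_left_eq_self φ g, integral_const]
    · simp [pow_succ, integral_const_mul]
    · exact (integrable_left μ (hφ.comp (continuous_const.add continuous_id))).const_mul _
    · exact integrable_const _
    · exact ((integrable_left μ (hφ.comp (continuous_const.add continuous_id))).const_mul _).sub (integrable_const _)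
    · exact (integrable_left μ hφ).const_mul _

omit [IsTopologicalAddGroup G] in
theorem cons_update {n : ℕ} (p q c : G) (a b : G) (u : Fin n → G) :
    Function.update (Function.update (Fin.cons a (Fin.cons b u) : Fin (n + 2) → G) 0 p) (0 : Fin (n + 1)).succ q =
      Fin.cons p (Fin.cons q u) := by
  rw [Fin.update_cons_zero, ← Fin.cons_update, Fin.update_cons_zero]

theorem exists_dev (n : ℕ) : ∀ (ψ : (Fin (n + 1) → G) → ℝ), Continuous ψ →
    (∀ (i j : Fin (n + 1)), i ≠ j → ∀ (x : Fin (n + 1) → G) (a b c : G),
      ψ (Function.update (Function.update x i (a + b)) j c) + ψ (Function.update (Function.update x i a) j b) =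
        ψ (Function.update (Function.update x i a) j (b + c)) + ψ (Function.update (Function.update x i b) j c)) →
    ∀ x, ψ x = S (fun g => (-1 : ℝ) ^ n * J μ n (fun u => ψ (Fin.cons g u))) x := by
  induction n with
  | zero =>
    intro ψ _ _ x
    rw [S_zero]
    simp only [J, pow_zero, one_mul]
    rw [integral_unique]
    simp only [measureReal_def, measure_univ, ENNReal.toReal_one, one_smul]
    congr 1
    funext i
    rw [Fin.eq_zero i, Fin.cons_zero]
  | succ n ih =>
    intro ψ hψc hψ x
    let ins : G → (Fin (n + 1) → G) → (Fin (n + 2) → G) := fun c y => Fin.cons (y 0) (Fin.cons c (Fin.tail y))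
    let e : Fin (n + 1) → Fin (n + 2) := fun i => Fin.cases 0 (fun k => k.succ.succ) i
    have he : Function.Injective e := by
      intro i j h
      induction i using Fin.cases <;> induction j using Fin.cases <;>
        simp_all [e, Fin.succ_ne_zero, (Fin.succ_ne_zero _).symm]
    have hins : ∀ c y i v, ins c (Function.update y i v) = Function.update (ins c y) (e i) v := by
      intro c y i v
      induction i using Fin.cases with
      | zero =>
        change (Fin.cons _ (Fin.cons _ _) : Fin (n + 2) → G) = Function.update (Fin.cons _ (Fin.cons _ _) : Fin (n + 2) → G) 0 v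
        rw [Fin.update_cons_zero, Function.update_self, Fin.tail_update_zero]
      | succ k =>
        change (Fin.cons _ (Fin.cons _ _) : Fin (n + 2) → G) = Function.update (Fin.cons _ (Fin.cons _ _) : Fin (n + 2) → G) k.succ.succ v
        rw [← Fin.cons_update, ← Fin.cons_update, Function.update_of_ne (Fin.succ_ne_zero k).symm, Fin.tail_update_succ]
    have hcons : Continuous (fun p : (Fin (n + 1) → G) × G => ins p.2 p.1) := by
      refine continuous_pi fun i => ?_
      induction i using Fin.cases with
      | zero => exact (continuous_apply (0 : Fin (n + 1))).comp continuous_fst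
      | succ j =>
        induction j using Fin.cases with
        | zero => exact continuous_snd
        | succ k => exact (continuous_apply k.succ).comp continuous_fst
    let Λ : (Fin (n + 1) → G) → ℝ := fun y => ∫ c, ψ (ins c y) ∂μ
    have hint : ∀ y, Integrable (fun c => ψ (ins c y)) μ := fun y =>
      integrable_left μ ((hψc.comp hcons).comp (continuous_const.prodMk continuous_id))
    have hΛc : Continuous Λ := by
      have h1 : Continuous fun y => J μ 1 (fun w => ψ (ins (w 0) y)) :=
        continuous_J μ ((hψc.comp hcons).comp (continuous_fst.prodMk ((continuous_apply 0).comp continuous_snd)))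
      refine h1.congr fun y => ?_
      rw [J_succ' μ (f := fun w : Fin 1 → G => ψ (ins (w 0) y))
        ((hψc.comp hcons).comp (continuous_const.prodMk (continuous_apply 0)))]
      simp [J, Λ]
    have hΛ : ∀ (i j : Fin (n + 1)), i ≠ j → ∀ (y : Fin (n + 1) → G) (a b c : G),
        Λ (Function.update (Function.update y i (a + b)) j c) + Λ (Function.update (Function.update y i a) j b) =
          Λ (Function.update (Function.update y i a) j (b + c)) + Λ (Function.update (Function.update y i b) j c) := by
      intro i j hij y a b c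
      simp only [Λ]
      rw [← integral_add (hint _) (hint _), ← integral_add (hint _) (hint _)]
      simp only [hins, hψ _ _ (he.ne hij)]
    have hψ01 : ∀ (a b : G) (u : Fin n → G), ψ (Fin.cons a (Fin.cons b u)) =
        Λ (Fin.cons a u) + Λ (Fin.cons b u) - Λ (Fin.cons (a + b) u) := by
      intro a b u
      have h : ∀ c, ψ (Fin.cons (a + b) (Fin.cons c u)) + ψ (Fin.cons a (Fin.cons b u)) =
          ψ (Fin.cons a (Fin.cons (b + c) u)) + ψ (Fin.cons b (Fin.cons c u)) := fun c => by
        have := hψ 0 (0 : Fin (n + 1)).succ (Fin.succ_ne_zero _).symm (Fin.cons a (Fin.cons b u)) a b c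
        simpa only [cons_update _ _ c] using this
      have hc : ∀ p : G, Continuous fun c : G => ψ (Fin.cons p (Fin.cons c u)) := fun p =>
        cont_cons_left (cont_cons_right hψc p) u
      have h2 := integral_congr_ae (μ := μ) (Filter.Eventually.of_forall h)
      have hab : Integrable (fun c => ψ (Fin.cons a (Fin.cons (b + c) u))) μ :=
        integrable_left μ ((hc a).comp (continuous_const.add continuous_id))
      rw [integral_add (integrable_left μ (hc _)) (integrable_const _),
        integral_add hab (integrable_left μ (hc _)),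
        integral_const] at h2
      simp only [measureReal_def, measure_univ, ENNReal.toReal_one, one_smul] at h2
      have h3 : ∫ c, ψ (Fin.cons a (Fin.cons (b + c) u)) ∂μ = ∫ c, ψ (Fin.cons a (Fin.cons c u)) ∂μ :=
        integral_add_left_eq_self (fun c => ψ (Fin.cons a (Fin.cons c u))) b
      rw [h3] at h2
      simp only [Λ, ins, Fin.cons_zero, Fin.tail_cons]
      linarith
    have hφ : ∀ y, Λ y = - S (fun g => (-1 : ℝ) ^ (n + 1) * J μ (n + 1) (fun u => ψ (Fin.cons g u))) y := by
      intro y
      rw [← S_neg, ih Λ hΛc hΛ y]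
      congr 1
      funext g
      rw [J_succ' μ (cont_cons_right hψc g)]
      simp only [Λ, ins, Fin.cons_zero, Fin.tail_cons, pow_succ]
      ring
    obtain ⟨a, b, u, rfl⟩ : ∃ a b u, x = Fin.cons a (Fin.cons b u) :=
      ⟨x 0, Fin.tail x 0, Fin.tail (Fin.tail x), by rw [Fin.cons_self_tail, Fin.cons_self_tail]⟩
    rw [S_succ, hψ01, hφ, hφ, hφ]
    ring

end Groth.Agent.HaarDev
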